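import Groth.Agent.SymPolyLib.Esymm
import Mathlib

/-! The staircase monomials form a basis of the splitting algebra. -/

set_option autoImplicit false
open Polynomial
universe u v

namespace Groth.Agent.SymBasisLib

/-- Exponent vectors under the staircase. -/
abbrev Stair (r : ℕ) : Type := Π i : Fin r, Fin (r - (i : ℕ))

/-- The staircase monomial. -/
def mono {S : Type v} [CommRing S] {r : ℕ} (w : Fin r → S) (d : Stair r) : S :=
  ∏ i : Fin r, w i ^ ((d i : ℕ))

theorem card_stair (r : ℕ) : Fintype.card (Stair r) = r.factorial := by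
  rw [Fintype.card_pi]
  simp only [Fintype.card_fin]
  induction r with
  | zero => simp
  | succ r ih =>
    rw [Fin.prod_univ_succ, Nat.factorial_succ, ← ih]
    simp

theorem coeff_genPoly_mem {A : Type u} [CommRing A] {S : Type v} [CommRing S] (s : A →+* S) {r : ℕ}
    (w : Fin r → S)
    (h : ∀ m, 1 ≤ m → m ≤ r → (Finset.univ.val.map w).esymm m ∈ s.range) (k : ℕ) :
    (∏ i : Fin r, (X - C (w i))).coeff k ∈ s.range := by
  have hm : (Finset.univ.val.map w).card = r := by simp
  have e : (∏ i : Fin r, (X - C (w i))) = ((Finset.univ.val.map w).map fun z => X - C z).prod := by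
    rw [Multiset.map_map]; rfl
  rw [e]
  by_cases hk : k ≤ r
  · rw [Multiset.prod_X_sub_C_coeff _ (by rw [hm]; exact hk), hm]
    refine mul_mem (pow_mem (neg_mem (one_mem _)) _) ?_
    rcases Nat.eq_zero_or_pos (r - k) with h0 | h0
    · rw [h0]; simp [Multiset.esymm, one_mem]
    · exact h _ h0 (Nat.sub_le _ _)
  · rw [coeff_eq_zero_of_natDegree_lt]
    · exact zero_mem _
    · rw [← e]
      refine lt_of_le_of_lt (natDegree_prod_le _ _) (lt_of_le_of_lt ?_ (not_le.1 hk))
      refine le_trans (Finset.sum_le_sum (g := fun _ => 1) fun i _ => natDegree_X_sub_C_le _) ?_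
      simp

/-- The staircase monomials span. -/
theorem stair_span {S : Type v} [CommRing S] : ∀ {r : ℕ} {A : Type v} [CommRing A] (s : A →+* S)
    (w : Fin r → S) (_ : ∀ k, (∏ i : Fin r, (X - C (w i))).coeff k ∈ s.range) (x : S)
    (_ : x ∈ Subring.closure (Set.range s ∪ Set.range w)),
    ∃ c : Stair r → A, x = ∑ d, s (c d) * mono w d := by
  intro r
  induction r with
  | zero =>
    intro A _ s w _ x hx
    have hw : Set.range w = ∅ := Set.range_eq_empty w
    rw [hw, Set.union_empty, ← RingHom.coe_range, Subring.closure_eq] at hx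
    obtain ⟨a, rfl⟩ := hx
    exact ⟨fun _ => a, by simp [mono]⟩
  | succ r ih =>
    intro A _ s w hw x hx
    let A' : Subring S := Subring.closure (Set.range s ∪ {w 0})
    have hs : ∀ a, s a ∈ A' := fun a => Subring.subset_closure (Or.inl ⟨a, rfl⟩)
    have hu : w 0 ∈ A' := Subring.subset_closure (Or.inr rfl)
    set P := ∏ i : Fin (r + 1), (X - C (w i)) with hP
    set Q := ∏ i : Fin r, (X - C (w i.succ)) with hQ
    have hPQ : P = (X - C (w 0)) * Q := Fin.prod_univ_succ _
    have hQdeg : Q.natDegree ≤ r := by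
      refine le_trans (natDegree_prod_le _ _) (le_trans (Finset.sum_le_sum
        (g := fun _ => 1) fun i _ => natDegree_X_sub_C_le _) ?_)
      simp
    have hQmem : ∀ m k, r + 1 ≤ k + m → Q.coeff k ∈ A' := by
      intro m
      induction m with
      | zero => intro k hk; rw [coeff_eq_zero_of_natDegree_lt (by omega)]; exact zero_mem _
      | succ m ihm =>
        intro k hk
        have h : P.coeff (k + 1) = Q.coeff k - w 0 * Q.coeff (k + 1) := by
          rw [hPQ, sub_mul, coeff_sub, coeff_X_mul, coeff_C_mul]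
        obtain ⟨a, ha⟩ := hw (k + 1)
        rw [show Q.coeff k = s a + w 0 * Q.coeff (k + 1) by rw [ha, h]; ring]
        exact add_mem (hs a) (mul_mem hu (ihm (k + 1) (by omega)))
    have hx' : x ∈ Subring.closure (Set.range A'.subtype ∪ Set.range (fun i : Fin r => w i.succ)) := by
      refine Subring.closure_mono ?_ hx
      rintro y (⟨a, rfl⟩ | ⟨i, rfl⟩)
      · exact Or.inl ⟨⟨_, hs a⟩, rfl⟩
      · refine Fin.cases (Or.inl ⟨⟨_, hu⟩, rfl⟩) (fun j => Or.inr ⟨j, rfl⟩) i
    obtain ⟨c', hc'⟩ := ih A'.subtype (fun i => w i.succ)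
      (fun k => ⟨⟨_, hQmem (r + 1) k (by omega)⟩, rfl⟩) x hx'
    letI := s.toAlgebra
    let M0 : Submodule A S := Submodule.span A (Set.range fun k : Fin (r + 1) => w 0 ^ (k : ℕ))
    have hpow : w 0 ^ (r + 1) ∈ M0 := by
      have hPdeg : P.natDegree < r + 2 := by
        rw [hPQ]
        exact Nat.lt_succ_of_le (le_trans natDegree_mul_le
          (by have := natDegree_X_sub_C_le (w 0); omega))
      have htop : P.coeff (r + 1) = 1 := by
        have := Groth.Agent.SymPolyLib.map_genPoly (A := A) (r := r + 1)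
          (MvPolynomial.eval₂Hom s w)
        simp only [MvPolynomial.eval₂Hom_X'] at this
        rw [hP, ← this, coeff_map, Groth.Agent.SymPolyLib.coeff_genPoly_self, map_one]
      have h0 : P.eval (w 0) = 0 := by simp [hPQ]
      rw [eval_eq_sum_range' hPdeg, Finset.sum_range_succ, htop, one_mul, add_eq_zero_iff_eq_neg'] at h0
      rw [h0]
      refine neg_mem (sum_mem fun i hi => ?_)
      obtain ⟨a, ha⟩ := hw i
      rw [← ha]
      exact M0.smul_mem a (Submodule.subset_span ⟨⟨i, Finset.mem_range.1 hi⟩, rfl⟩)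
    have hmul : ∀ m ∈ M0, w 0 * m ∈ M0 := by
      intro m hm
      induction hm using Submodule.span_induction with
      | mem y hy =>
        obtain ⟨k, rfl⟩ := hy
        rw [← pow_succ']
        rcases Nat.lt_or_ge ((k : ℕ) + 1) (r + 1) with h | h
        · exact Submodule.subset_span ⟨⟨_, h⟩, rfl⟩
        · rw [show (k : ℕ) + 1 = r + 1 from le_antisymm k.2 h]; exact hpow
      | zero => simp
      | add y z _ _ hy hz => rw [mul_add]; exact add_mem hy hz
      | smul a y _ hy => rw [mul_smul_comm]; exact M0.smul_mem a hy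
    have hA' : ∀ y ∈ A', ∀ m ∈ M0, y * m ∈ M0 := by
      intro y hy
      induction hy using Subring.closure_induction with
      | mem z hz =>
        rcases hz with ⟨a, rfl⟩ | rfl
        · exact fun m hm => M0.smul_mem a hm
        · exact hmul
      | zero => simp
      | one => simp
      | add y z _ _ hy hz => intro m hm; rw [add_mul]; exact add_mem (hy m hm) (hz m hm)
      | neg y _ hy => intro m hm; rw [neg_mul]; exact neg_mem (hy m hm)
      | mul y z _ _ hy hz => intro m hm; rw [mul_assoc]; exact hy _ (hz m hm)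
    let M : Submodule A S := Submodule.span A (Set.range (mono w))
    have hxM : x ∈ M := by
      rw [hc']
      refine sum_mem fun d' _ => ?_
      have h1 : ((c' d' : A') : S) ∈ M0 := by
        have := hA' _ (c' d').2 1 (Submodule.subset_span ⟨0, by simp⟩)
        simpa using this
      change (c' d' : S) * _ ∈ M
      generalize (c' d' : S) = y at h1 ⊢
      induction h1 using Submodule.span_induction with
      | mem y hy =>
        obtain ⟨k, rfl⟩ := hy
        refine Submodule.subset_span ⟨Fin.cases (motive := fun i => Fin (r + 1 - (i : ℕ)))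
          ⟨k, by simp; omega⟩ (fun i => ⟨d' i, by simp⟩) , ?_⟩
        simp [mono, Fin.prod_univ_succ]
      | zero => simp
      | add y z _ _ hy hz => rw [add_mul]; exact add_mem hy hz
      | smul a y _ hy => rw [smul_mul_assoc]; exact M.smul_mem a hy
    obtain ⟨c, hc⟩ := (Submodule.mem_span_range_iff_exists_fun A).1 hxM
    exact ⟨c, by rw [← hc]; exact Finset.sum_congr rfl fun d _ => Algebra.smul_def _ _⟩

/-- The ideal generated by the `e_i(t) - a_i`. -/
noncomputable def relIdeal {R : Type u} [CommRing R] {n : ℕ} (a : Fin n → R) :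
    Ideal (MvPolynomial (Fin n) R) :=
  Ideal.span (Set.range fun i : Fin n =>
    MvPolynomial.esymm (Fin n) R ((i : ℕ) + 1) - MvPolynomial.C (a i))

/-- Every polynomial is a staircase combination modulo the relations. -/
theorem exists_stair {R : Type u} [CommRing R] {n : ℕ} (a : Fin n → R) (x : MvPolynomial (Fin n) R) :
    ∃ c : Stair n → R, x - ∑ d, MvPolynomial.C (c d) * mono MvPolynomial.X d ∈ relIdeal a := by
  let q := Ideal.Quotient.mk (relIdeal a)
  let s : R →+* MvPolynomial (Fin n) R ⧸ relIdeal a := q.comp MvPolynomial.C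
  have hw : ∀ k, (∏ i : Fin n, (X - C (q (MvPolynomial.X i)))).coeff k ∈ s.range := by
    refine coeff_genPoly_mem s _ fun m hm1 hm2 => ⟨a ⟨m - 1, by omega⟩, ?_⟩
    have h : (Finset.univ.val.map fun i => q (MvPolynomial.X i)).esymm m =
        q (MvPolynomial.esymm (Fin n) R m) := by
      rw [Finset.esymm_map_val, MvPolynomial.esymm, map_sum]
      simp [map_prod]
    rw [h]
    have hmem : MvPolynomial.esymm (Fin n) R m - MvPolynomial.C (a ⟨m - 1, by omega⟩) ∈ relIdeal a :=
      Ideal.subset_span ⟨⟨m - 1, by omega⟩, by simp [Nat.sub_add_cancel hm1]⟩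
    exact (Ideal.Quotient.eq.2 hmem).symm
  have hgen : q x ∈ Subring.closure (Set.range s ∪ Set.range fun i => q (MvPolynomial.X i)) := by
    induction x using MvPolynomial.induction_on with
    | C r => exact Subring.subset_closure (Or.inl ⟨r, rfl⟩)
    | add p p' hp hp' => rw [map_add]; exact add_mem hp hp'
    | mul_X p i hp => rw [map_mul]; exact mul_mem hp (Subring.subset_closure (Or.inr ⟨i, rfl⟩))
  obtain ⟨c, hc⟩ := stair_span s _ hw (q x) hgen
  refine ⟨c, Ideal.Quotient.eq.1 (hc.trans ?_)⟩
  simp [q, s, mono, map_sum, map_prod]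

/-- Staircase coordinates modulo the relations are unique. -/
theorem stair_unique {R : Type u} [CommRing R] {n : ℕ} (a : Fin n → R) (c : Stair n → R)
    (hc : ∑ d, MvPolynomial.C (c d) * mono MvPolynomial.X d ∈ relIdeal a) : c = 0 := by
  obtain ⟨B⟩ := Groth.Agent.SymPolyLib.exists_basis_esymm n a
  let Ψ := Fintype.linearCombination R
    (fun d : Stair n => Ideal.Quotient.mk (relIdeal a) (mono MvPolynomial.X d))
  have hΨ : ∀ c : Stair n → R, Ψ c =
      Ideal.Quotient.mk (relIdeal a) (∑ d, MvPolynomial.C (c d) * mono MvPolynomial.X d) := by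
    intro c
    rw [Fintype.linearCombination_apply, map_sum]
    refine Finset.sum_congr rfl fun d _ => ?_
    rw [← MvPolynomial.smul_eq_C_mul]
    rfl
  have hsurj : Function.Surjective Ψ := by
    intro y
    obtain ⟨x, rfl⟩ := Ideal.Quotient.mk_surjective y
    obtain ⟨c, hc⟩ := exists_stair a x
    exact ⟨c, (hΨ c).trans (Ideal.Quotient.eq.2 hc).symm⟩
  let ι : Stair n ≃ Fin n.factorial := Fintype.equivFinOfCardEq (card_stair n)
  let φ : (Stair n → R) →ₗ[R] (Stair n → R) :=
    (B.reindex ι.symm).equivFun.toLinearMap ∘ₗ Ψ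
  have hφ : Function.Injective φ :=
    OrzechProperty.injective_of_surjective_endomorphism φ
      ((B.reindex ι.symm).equivFun.surjective.comp hsurj)
  apply hφ
  rw [map_zero]
  change (B.reindex ι.symm).equivFun (Ψ c) = 0
  rw [hΨ c, Ideal.Quotient.eq_zero_iff_mem.2 hc]
  exact map_zero _

end Groth.Agent.SymBasisLib

namespace Groth.Agent.SymBasisLib

/-- Extension of an ideal of coefficients. -/
theorem mem_sup_iff {R : Type u} [CommRing R] {n : ℕ} (a : Fin n → R) (J : Ideal R)
    (x : MvPolynomial (Fin n) R) :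
    x ∈ relIdeal a ⊔ Ideal.map (MvPolynomial.C : R →+* MvPolynomial (Fin n) R) J ↔
      ∃ j : Stair n → R, (∀ d, j d ∈ J) ∧
        x - ∑ d, MvPolynomial.C (j d) * mono MvPolynomial.X d ∈ relIdeal a := by
  constructor
  · intro hx
    obtain ⟨u, hu, v, hv, rfl⟩ := Submodule.mem_sup.1 hx
    suffices h : ∀ y, ∃ j : Stair n → R, (∀ d, j d ∈ J) ∧
        y * v - ∑ d, MvPolynomial.C (j d) * mono MvPolynomial.X d ∈ relIdeal a by
      obtain ⟨j, hj, h1⟩ := h 1
      refine ⟨j, hj, ?_⟩
      rw [one_mul] at h1
      rw [add_sub_assoc]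
      exact add_mem hu h1
    clear hx
    induction hv using Submodule.span_induction with
    | mem z hz =>
      obtain ⟨r, hr, rfl⟩ := hz
      intro y
      obtain ⟨c, hc⟩ := exists_stair a y
      refine ⟨fun d => r * c d, fun d => J.mul_mem_right _ hr, ?_⟩
      have := Ideal.mul_mem_left (relIdeal a) (MvPolynomial.C r) hc
      rw [mul_sub, Finset.mul_sum] at this
      simpa [map_mul, mul_assoc, mul_comm y] using this
    | zero => exact fun y => ⟨fun _ => 0, fun _ => J.zero_mem, by simp⟩
    | add z z' _ _ hz hz' =>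
      intro y
      obtain ⟨j, hj, h1⟩ := hz y
      obtain ⟨j', hj', h2⟩ := hz' y
      refine ⟨j + j', fun d => add_mem (hj d) (hj' d), ?_⟩
      have := add_mem h1 h2
      simp only [Pi.add_apply, map_add, add_mul, Finset.sum_add_distrib]
      convert this using 1
      ring
    | smul t z _ hz =>
      intro y
      rw [smul_eq_mul, ← mul_assoc]
      exact hz _
  · rintro ⟨j, hj, h⟩
    have h2 : ∑ d, MvPolynomial.C (j d) * mono MvPolynomial.X d ∈
        relIdeal a ⊔ Ideal.map (MvPolynomial.C : R →+* MvPolynomial (Fin n) R) J :=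
      sum_mem fun d _ => Ideal.mul_mem_right _ _
        (Ideal.mem_sup_right (Ideal.mem_map_of_mem _ (hj d)))
    simpa using add_mem (Ideal.mem_sup_left h) h2

theorem sub_mem_sup_iff {R : Type u} [CommRing R] {n : ℕ} (a : Fin n → R) (J : Ideal R)
    (α β : Stair n → R) :
    (∑ d, MvPolynomial.C (α d) * mono MvPolynomial.X d) -
        (∑ d, MvPolynomial.C (β d) * mono MvPolynomial.X d) ∈
      relIdeal a ⊔ Ideal.map (MvPolynomial.C : R →+* MvPolynomial (Fin n) R) J ↔
      ∀ d, α d - β d ∈ J := by
  rw [mem_sup_iff]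
  constructor
  · rintro ⟨j, hj, h⟩ d
    rw [← Finset.sum_sub_distrib, ← Finset.sum_sub_distrib] at h
    simp only [← sub_mul, ← map_sub] at h
    have := congrFun (stair_unique a (fun d => α d - β d - j d) h) d
    rw [sub_eq_zero.1 this]
    exact hj d
  · intro h
    refine ⟨fun d => α d - β d, h, ?_⟩
    simp [map_sub, sub_mul]

theorem bijective_int (R : Type u) [CommRing R] (n : ℕ) :
    Function.Bijective (fun p : Stair n → MvPolynomial (Fin n) R =>
      ∑ d, (MvPolynomial.aeval (fun i : Fin n => MvPolynomial.esymm (Fin n) R ((i : ℕ) + 1))) (p d) *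
        mono MvPolynomial.X d) := by
  let T := MvPolynomial (Fin n) R
  set s : T →ₐ[R] MvPolynomial (Fin n) R := MvPolynomial.aeval (fun i : Fin n => MvPolynomial.esymm (Fin n) R ((i : ℕ) + 1)) with hs
  have hw : ∀ k, (∏ i : Fin n, (X - C (MvPolynomial.X i : MvPolynomial (Fin n) R))).coeff k ∈
      (s : T →+* MvPolynomial (Fin n) R).range := by
    refine coeff_genPoly_mem _ _ fun m hm1 hm2 => ⟨MvPolynomial.X ⟨m - 1, by omega⟩, ?_⟩
    rw [← MvPolynomial.esymm_eq_multiset_esymm]
    simp only [RingHom.coe_coe, hs]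
    exact (MvPolynomial.aeval_X _ _).trans (by rw [Nat.sub_add_cancel hm1])
  have hgen : ∀ x, x ∈ Subring.closure (Set.range (s : T →+* MvPolynomial (Fin n) R) ∪
      Set.range (MvPolynomial.X : Fin n → MvPolynomial (Fin n) R)) := by
    intro x
    induction x using MvPolynomial.induction_on with
    | C r =>
      exact Subring.subset_closure (Or.inl ⟨MvPolynomial.C r, MvPolynomial.aeval_C _ r⟩)
    | add p p' hp hp' => exact add_mem hp hp'
    | mul_X p i hp => exact mul_mem hp (Subring.subset_closure (Or.inr ⟨i, rfl⟩))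
  have hG : Function.Surjective (fun p : Stair n → T => ∑ d, s (p d) * mono MvPolynomial.X d) :=
    fun x => by
      obtain ⟨c, hc⟩ := stair_span (s : T →+* MvPolynomial (Fin n) R) MvPolynomial.X hw x (hgen x)
      exact ⟨c, hc.symm⟩
  refine ⟨?_, hG⟩
  obtain ⟨b, hb⟩ := Groth.Agent.SymPolyLib.exists_bijective_esymm R n
  let ι : Stair n ≃ Fin n.factorial := Fintype.equivFinOfCardEq (card_stair n)
  let E := Equiv.ofBijective _ hb
  let φ : (Stair n → T) →ₗ[T] (Stair n → T) :=
    { toFun := fun p => (E.symm (∑ d, s (p d) * mono MvPolynomial.X d)) ∘ ι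
      map_add' := fun p q => by
        have : E.symm (∑ d, s ((p + q) d) * mono MvPolynomial.X d) =
            E.symm (∑ d, s (p d) * mono MvPolynomial.X d) +
              E.symm (∑ d, s (q d) * mono MvPolynomial.X d) := by
          rw [Equiv.symm_apply_eq]
          conv_rhs => rw [Equiv.ofBijective_apply]
          simp only [Pi.add_apply, map_add, add_mul, Finset.sum_add_distrib]
          congr 1 <;> exact (E.apply_symm_apply _).symm
        rw [this]; rfl
      map_smul' := fun c p => by
        have : E.symm (∑ d, s ((c • p) d) * mono MvPolynomial.X d) =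
            c • E.symm (∑ d, s (p d) * mono MvPolynomial.X d) := by
          rw [Equiv.symm_apply_eq]
          conv_rhs => rw [Equiv.ofBijective_apply]
          simp only [Pi.smul_apply, smul_eq_mul, map_mul, mul_assoc, ← Finset.mul_sum]
          congr 1
          exact (E.apply_symm_apply _).symm
        rw [this]; rfl }
  have hφs : Function.Surjective φ := by
    intro q
    obtain ⟨p, hp⟩ := hG (E (q ∘ ι.symm))
    dsimp only at hp
    refine ⟨p, funext fun d => ?_⟩
    change E.symm (∑ d, s (p d) * mono MvPolynomial.X d) (ι d) = q d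
    rw [hp, Equiv.symm_apply_apply, Function.comp_apply, Equiv.symm_apply_apply]
  have hinj := OrzechProperty.injective_of_surjective_endomorphism φ hφs
  intro p q h
  apply hinj
  exact congrArg (fun z => E.symm z ∘ ι) h

end Groth.Agent.SymBasisLib
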